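import Cfsg.Agent.H196.S8.FiSocOne
import Cfsg.Agent.H740.S8.ONSoc
import Cfsg.Agent.H492.FactsHN
import Cfsg.Agent.H58.S8.Iso

/-!
# S4908: the row SOC1 of `O'N` (helper247, after helper196)

`not_32` : the candidate `32` of the sieve is not a degree (the Sylow 3-subgroup is elementary of order 81 with all
elements conjugate). The remaining superset has no prime powers and no small degree of another sporadic group.
-/

set_option autoImplicit false
set_option maxRecDepth 100000

namespace Cfsg.Agent.H247.S8.ONSoc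

open Cfsg Subgroup
open Cfsg.Agent.H691.AN (AlmostSimple)
open Cfsg.Agent.H393.S8.ON (Adm Adm2)
open Cfsg.Agent.Characters.Core
open Cfsg.Agent.H653.Sieve (deg deg_cast)
open Cfsg.Agent.H894.J4Two (apply_eq_of_isConj)
open Cfsg.Agent.H196.S8 (exists_dvd_degree exists_split prime_deg two_deg lie_pp alt_deg lie_five prime_dvd_alt
  prime_mem mem_of_irr mem_of_irr' mem_of_equiv)

universe u v

/-! ### `32` is not a degree -/

theorem not_32 : 32 ∉ charDegrees Spor.ON := by
  have hs := H393.S8.ON.simple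
  have hfin : Finite Spor.ON := H393.S8.ON.finite_ON
  rintro ⟨χ, hχ⟩
  obtain ⟨Δ⟩ := H210.On7.exists_data
  classical
  have := finite_irr (G := Spor.ON)
  have := Fintype.ofFinite (IrrCharacter Spor.ON)
  have hz : ∀ w ∈ zpowers Δ.z, w ≠ 1 → IsConj w Δ.z := fun w hw h1 =>
    Δ.c3 w (H894.J4Two.orderOf_of_card Nat.prime_three (by rw [Nat.card_zpowers, Δ.oz]) hw h1)
  obtain ⟨T, -, vT, -⟩ := H894.J4Two.exists_col_rat Nat.prime_three Δ.oz hz
  have hd : deg χ = 32 := hχ
  obtain ⟨m, hm⟩ : ∃ m : ℕ, (deg χ : ℤ) + 80 * T χ = 81 * m := by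
    have := Fintype.ofFinite Δ.E
    obtain ⟨m, hm⟩ := SmallSimple.TheoremBCor.exists_sum_eq (isIrr_isCharacter χ.2) Δ.E
    rw [← Finset.add_sum_erase _ _ (Finset.mem_univ (1 : Δ.E)), Subgroup.coe_one, deg_cast,
      Finset.sum_congr rfl (g := fun _ => (T χ : ℂ)), Finset.sum_const,
      Finset.card_erase_of_mem (Finset.mem_univ _), Finset.card_univ, ← Nat.card_eq_fintype_card, Δ.cardE] at hm
    · refine ⟨m, ?_⟩
      have h6 : (((deg χ : ℤ) + 80 * T χ : ℤ) : ℂ) = ((81 * m : ℤ) : ℂ) := by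
        push_cast
        simp only [nsmul_eq_mul] at hm
        push_cast at hm
        linear_combination hm
      exact_mod_cast h6
    · intro b hb
      rw [← vT]
      exact apply_eq_of_isConj χ.2 (Δ.c3 b (Δ.expE b b.2 fun e => (Finset.mem_erase.1 hb).1 (Subtype.ext e)))
  have hone : (χ : Spor.ON → ℂ) 1 = ((32 : ℕ) : ℂ) := by rw [deg_cast, hd]
  have hnorm : ‖(χ : Spor.ON → ℂ) Δ.z‖ ≤ 32 := by
    have h1 := Characters.SchurBound.norm_le (isIrr_isCharacter χ.2) hone Δ.z
    simpa using h1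
  rw [vT, Complex.norm_intCast] at hnorm
  have h1 : |T χ| ≤ 32 := by exact_mod_cast hnorm
  have h2 := abs_le.1 h1
  rw [hd] at hm
  have h3 : T χ = 32 := by
    push_cast at hm
    omega
  have hz1 : Δ.z ≠ 1 := fun h => by
    have := Δ.oz
    rw [h, orderOf_one] at this
    norm_num at this
  have h4 := SporadicA.M11CharSimple.eq_one_of_apply_eq χ.2 hz1 (by rw [vT, h3, hone]; norm_num)
  rw [h4, Pi.one_apply] at hone
  norm_num at hone

/-! ### the superset -/

/-- the admissible numbers -/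
def ok (d : ℕ) : Bool := Adm2.contains d && !Nat.beq d 32 && !Nat.beq d 64

theorem ok_of {d : ℕ} (h1 : d ∈ Adm2) (h2 : d ≠ 32) (h3 : d ≠ 64) : ok d = true := by
  rw [ok, Bool.and_eq_true, Bool.and_eq_true]
  refine ⟨⟨List.contains_iff_mem.2 h1, ?_⟩, ?_⟩
  · rw [Bool.not_eq_true', ← Bool.not_eq_true]
    exact fun h => h2 (Nat.eq_of_beq_eq_true h)
  · rw [Bool.not_eq_true', ← Bool.not_eq_true]
    exact fun h => h3 (Nat.eq_of_beq_eq_true h)

theorem deg_ok {X : Type v} [Group X] (hX : Spor.IsoON X) {D : Set ℕ} (hD : H704.S8.Deg 2 X D) {d : ℕ} (hd : d ∈ D) :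
    d ∣ 921631011840 ∧ ok d = true := by
  have h1 := H393.S8.ON.sup hX hD d hd
  refine ⟨Nat.dvd_of_mod_eq_zero (Nat.eq_of_beq_eq_true (List.all_eq_true.1 H740.S8.ONSoc.dvd_all _ h1)),
    ok_of h1 ?_ ?_⟩
  · rintro rfl
    rcases H393.S8.ON.deg_model hX hD with rfl | ⟨-, rfl⟩
    · exact not_32 hd
    · rcases H393.S8.ON.down hd with h | ⟨χ, χ', f, -, h4, -, h6⟩
      · exact not_32 h
      · obtain rfl : f = 16 := by omega
        exact absurd (H393.S8.ON.adm_of_mem ⟨χ, h4⟩) (by decide)
  · rintro rfl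
    rcases H393.S8.ON.deg_model hX hD with rfl | ⟨-, rfl⟩
    · exact absurd (H393.S8.ON.adm_of_mem hd) (by decide)
    · rcases H393.S8.ON.down hd with h | ⟨χ, χ', f, -, h4, -, h6⟩
      · exact absurd (H393.S8.ON.adm_of_mem h) (by decide)
      · obtain rfl : f = 32 := by omega
        exact not_32 ⟨χ, h4⟩

theorem pp_chk : ∀ r ∈ [2, 3, 5, 7, 11, 19, 31], ∀ v ∈ List.range 40, 1 ≤ v →
    ¬ (r ^ v ∣ 921631011840 ∧ ok (r ^ v) = true) := by
  decide +kernel

theorem no_pp {r v : ℕ} (hr : r.Prime) (hv : 0 < v) (h1 : r ^ v ∣ 921631011840) (h2 : ok (r ^ v) = true) :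
    False := by
  have h3 : r ∈ H740.S8.ONSoc.fac.map Prod.fst := prime_mem hr H740.S8.ONSoc.fac
    (fun x hx => by
      simp only [H740.S8.ONSoc.fac, List.mem_cons, List.not_mem_nil, or_false] at hx
      rcases hx with rfl | rfl | rfl | rfl | rfl | rfl | rfl <;> norm_num)
    (by rw [show H653.Sieve.facProd H740.S8.ONSoc.fac = 921631011840 by decide +kernel]
        exact (dvd_pow_self r hv.ne').trans h1)
  have h4 : v < 40 := by
    by_contra hcon
    have h5 : 2 ^ 40 ≤ r ^ v := (Nat.pow_le_pow_right (by norm_num) (by omega)).trans (Nat.pow_le_pow_left hr.two_le v)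
    have h6 := Nat.le_of_dvd (by norm_num) h1
    omega
  exact pp_chk r h3 v (List.mem_range.2 h4) hv ⟨h1, h2⟩

theorem low_chk : ∀ x ∈ [6, 7, 8, 9, 10, 11, 12, 20, 16, 21, 42, 32, 36, 72, 22, 44, 78, 156, 8910, 17820],
    ok x = true → False := by
  decide +kernel

theorem seven_chk : ∀ x ∈ Adm2, x ≤ 838 → x % 7 = 0 → False := by
  decide +kernel

section

variable {A : Type u} [Group A] [Finite A] {S : Subgroup A} (hA : AlmostSimple A S)
  (hD : ∀ d ∈ charDegrees A, d ∣ 921631011840 ∧ ok d = true)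

include hA hD

theorem pr {p : ℕ} (hp : p.Prime) (hd : p ∣ Nat.card S) : p ∣ 921631011840 := by
  obtain ⟨d, h1, h2⟩ := prime_deg hA hp hd
  exact h2.trans (hD d h1).1

theorem two (hout : Nat.card (Out S) ≤ 2) {a : ℕ} (ha : a ∈ charDegrees S)
    (h1 : ok a = true → False) (h2 : ok (2 * a) = true → False) : False := by
  rcases two_deg hA hout ha with h | h
  · exact h1 (hD _ h).2
  · exact h2 (hD _ h).2

theorem lie {r : ℕ} (hr : r.Prime) (h : IsLieTypeChar r S) : False := by
  obtain ⟨v, hv, h1⟩ := lie_pp hA hr h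
  exact no_pp hr hv (hD _ h1).1 (hD _ h1).2

theorem alt {m : ℕ} (hm : 5 ≤ m) (e : S ≃* alternatingGroup (Fin m)) : False := by
  rcases Nat.lt_or_ge m 7 with h7 | h7
  · have : m = 5 ∨ m = 6 := by omega
    rcases this with rfl | rfl
    · exact lie hA hD (by norm_num) (lie_five e)
    · exact lie hA hD (r := 3) (by norm_num) (H679.isLie_six ⟨e⟩)
  · have h12 : m ≤ 12 := by
      by_contra hcon
      have h1 := pr hA hD (p := 13) (by norm_num)
        (by rw [Nat.card_congr e.toEquiv]; exact prime_dvd_alt (by norm_num) (by norm_num) hm (by omega))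
      norm_num at h1
    have h1 := hD _ (alt_deg hA h7 e)
    refine low_chk (m - 1) ?_ h1.2
    interval_cases m <;> decide

theorem tits (h : Lie.IsoTits S) : False := by
  have hout := H489.card_out_tits h
  obtain ⟨e⟩ := h
  obtain ⟨f⟩ := H707.RowTits.equiv
  exact two hA hD hout (mem_of_equiv (e.trans f) H678.DG.Tits.deg_78) (low_chk 78 (by decide)) (low_chk 156 (by decide))

theorem spor (h : IsSporadicGroup S) : Spor.IsoON S := by
  have hout := H489.card_out_sporadic h
  have key : ∀ {a : ℕ}, a ∈ charDegrees S → (ok a = true → False) → (ok (2 * a) = true → False) → Spor.IsoON S :=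
    fun ha h1 h2 => (two hA hD hout ha h1 h2).elim
  have kp : ∀ {p N : ℕ}, p.Prime → Nat.card S = N → p ∣ N → ¬ p ∣ 921631011840 → Spor.IsoON S :=
    fun hp h1 h2 h3 => (h3 (pr hA hD hp (by rw [h1]; exact h2))).elim
  rcases h with h | h | h | h | h | h | h | h | h | h | h | h | h | h | h | h | h | h | h | h | h | h | h | h | h | h
  · obtain ⟨h1, -, -⟩ := H603.FD.Spor.m11 (UGT.End.MEleven.isM11 h)
    exact key h1 (low_chk 10 (by decide)) (low_chk 20 (by decide))
  · obtain ⟨h1, -, -⟩ := H603.FD.Spor.m12 (H603.FD.Spor.isM12 h)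
    exact key h1 (low_chk 16 (by decide)) (low_chk 32 (by decide))
  · obtain ⟨h1, -, -⟩ := H603.FD.Spor.m22 (H417.RecogMathieu.isM22 h)
    exact key h1 (low_chk 21 (by decide)) (low_chk 42 (by decide))
  · exact kp (p := 23) (by norm_num) (NotCT.Orders.m23 h) (by norm_num) (by norm_num)
  · exact kp (p := 23) (by norm_num) (NotCT.Orders.m24 h) (by norm_num) (by norm_num)
  · -- J1
    have := hA.simple
    have hc := NotCT.Orders.j1 h
    obtain ⟨d, h1, h2⟩ := exists_dvd_degree hA.nonab (p := 7) (by norm_num) (by rw [hc]; norm_num)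
    have h3 : d * d ≤ 175560 := by
      have h4 := H424.DegTools.sq_le h1 ⊥ bot_le
      rw [Subgroup.index_bot, hc] at h4
      nlinarith
    have h4 : d ≤ 419 := by
      by_contra hcon
      have : 420 * 420 ≤ d * d := Nat.mul_le_mul (by omega) (by omega)
      omega
    refine key h1 (fun h => ?_) (fun h => ?_)
    · rw [ok, Bool.and_eq_true, Bool.and_eq_true] at h
      exact seven_chk d (List.contains_iff_mem.1 h.1.1) (by omega) (by omega)
    · rw [ok, Bool.and_eq_true, Bool.and_eq_true] at h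
      exact seven_chk (2 * d) (List.contains_iff_mem.1 h.1.1) (by omega) (by omega)
  · exact key (H672.SporIM.j2 h).2 (low_chk 36 (by decide)) (low_chk 72 (by decide))
  · exact kp (p := 17) (by norm_num) (NotCT.Orders.j3 h) (by norm_num) (by norm_num)
  · exact kp (p := 43) (by norm_num) (NotCT.Orders.j4 h) (by norm_num) (by norm_num)
  · exact kp (p := 23) (by norm_num) (NotCT.Orders.co1 h) (by norm_num) (by norm_num)
  · exact kp (p := 23) (by norm_num) (NotCT.Orders.co2 h) (by norm_num) (by norm_num)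
  · exact kp (p := 23) (by norm_num) (NotCT.Orders.co3 h) (by norm_num) (by norm_num)
  · exact key (mem_of_irr (H765.DS.HSMcL.mcl_22 h)) (low_chk 22 (by decide)) (low_chk 44 (by decide))
  · exact key (mem_of_irr (H765.DS.HSMcL.hs_22 h)) (low_chk 22 (by decide)) (low_chk 44 (by decide))
  · exact kp (p := 13) (by norm_num) (NotCT.Orders.suz h) (by norm_num) (by norm_num)
  · exact kp (p := 17) (by norm_num) (NotCT.Orders.he h) (by norm_num) (by norm_num)
  · exact kp (p := 29) (by norm_num) (NotCT.Orders.ru h) (by norm_num) (by norm_num)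
  · exact h
  · exact kp (p := 67) (by norm_num) (NotCT.Orders.ly h) (by norm_num) (by norm_num)
  · exact kp (p := 13) (by norm_num) (NotCT.Orders.fi22 h) (by norm_num) (by norm_num)
  · exact kp (p := 23) (by norm_num) (NotCT.Orders.fi23 h) (by norm_num) (by norm_num)
  · exact kp (p := 29) (by norm_num) (NotCT.Orders.fi24 h) (by norm_num) (by norm_num)
  · obtain ⟨e⟩ := h
    exact key (mem_of_equiv e (mem_of_irr' H492.IMHN.exists_8910)) (low_chk 8910 (by decide)) (low_chk 17820 (by decide))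
  · exact kp (p := 13) (by norm_num) (NotCT.Orders.th h) (by norm_num) (by norm_num)
  · exact kp (p := 47) (by norm_num) (NotCT.Orders.b h) (by norm_num) (by norm_num)
  · exact kp (p := 71) (by norm_num) (NotCT.Orders.m h) (by norm_num) (by norm_num)

theorem main : Spor.IsoON S := by
  have := hA.simple
  rcases exists_split S hA.nonab with ⟨l, hl, ⟨e⟩⟩ | ⟨r, hr, h⟩ | h | h
  · exact (alt hA hD hl e).elim
  · exact (lie hA hD hr h).elim
  · exact (tits hA hD h).elim
  · exact spor hA hD h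

end

/-- **SOC1 for `O'N`**, model version -/
theorem soc1_iso {X : Type v} [Group X] (hX : Spor.IsoON X) {D : Set ℕ} (hD : H704.S8.Deg 2 X D) :
    H704.S8.Soc1.{u} D X := by
  intro A _ _ S hA h
  obtain ⟨e⟩ := main hA fun d hd => deg_ok hX hD (h hd)
  obtain ⟨f⟩ := hX
  exact ⟨e.trans f.symm⟩

/-- **SOC1 for `O'N`** -/
theorem soc1 {X : Type v} [Group X] [Finite X] (hX : Cfsg.IsON X) {D : Set ℕ} (hD : H704.S8.Deg 2 X D) :
    H704.S8.Soc1.{u} D X := soc1_iso (H58.S8.iso_on hX) hD

end Cfsg.Agent.H247.S8.ONSoc
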